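/-
The upper Fitting series of a group and its basic properties: normality, characteristic,
transport along isomorphisms, comparison with chains with nilpotent sections.
-/
import Cfsg.Agent.Lib.Solvable.Fitting
import Cfsg.Agent.Lib.Components.Primitive
import Cfsg.Agent.Lib.CharP.Basic
import Cfsg.Prelude.Def_Balance

set_option autoImplicit false
set_option linter.unusedSectionVars false

namespace Cfsg.Agent.Lib.FitH.Basic

open Subgroup Cfsg Cfsg.Agent.Lib.Core.Basic

universe u v

/-- The upper Fitting series, with normality. -/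
noncomputable def fitSeries (T : Type u) [Group T] : ℕ → {N : Subgroup T // N.Normal}
  | 0 => ⟨⊥, inferInstance⟩
  | n + 1 =>
    letI := (fitSeries T n).2
    ⟨(fittingSubgroup (T ⧸ (fitSeries T n).1)).comap (QuotientGroup.mk' (fitSeries T n).1),
      Subgroup.Normal.comap fittingSubgroup_normal _⟩

/-- The `n`-th term of the upper Fitting series. -/
noncomputable def fit (T : Type u) [Group T] (n : ℕ) : Subgroup T := (fitSeries T n).1

instance fit_normal (T : Type u) [Group T] (n : ℕ) : (fit T n).Normal := (fitSeries T n).2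

section

variable {T : Type u} [Group T]

@[simp] theorem fit_zero : fit T 0 = ⊥ := rfl

theorem mem_fit_succ {n : ℕ} {x : T} :
    x ∈ fit T (n + 1) ↔ QuotientGroup.mk' (fit T n) x ∈ fittingSubgroup (T ⧸ fit T n) := Iff.rfl

theorem fit_le_succ (n : ℕ) : fit T n ≤ fit T (n + 1) := by
  intro x hx
  rw [mem_fit_succ]
  have : QuotientGroup.mk' (fit T n) x = 1 := (QuotientGroup.eq_one_iff x).mpr hx
  rw [this]
  exact one_mem _

theorem map_fitting_le {G : Type u} {H : Type v} [Group G] [Group H] (e : G ≃* H) :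
    (fittingSubgroup G).map e.toMonoidHom ≤ fittingSubgroup H := by
  rw [Subgroup.map_le_iff_le_comap]
  apply sSup_le
  rintro N ⟨hN, hnil⟩
  rw [← Subgroup.map_le_iff_le_comap]
  apply le_sSup
  refine ⟨hN.map _ e.surjective, ?_⟩
  exact Group.nilpotent_of_surjective (e.toMonoidHom.subgroupMap N)
    (MonoidHom.subgroupMap_surjective _ _)

theorem mem_fitting_equiv {G : Type u} {H : Type v} [Group G] [Group H] (e : G ≃* H) (x : G) :
    e x ∈ fittingSubgroup H ↔ x ∈ fittingSubgroup G := by
  constructor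
  · intro h
    have h1 := map_fitting_le e.symm ⟨_, h, rfl⟩
    simpa using h1
  · intro h
    exact map_fitting_le e ⟨x, h, rfl⟩

theorem mem_fit_equiv [Finite T] {T' : Type v} [Group T'] (e : T ≃* T') (n : ℕ) (x : T) :
    e x ∈ fit T' n ↔ x ∈ fit T n := by
  induction n generalizing x with
  | zero => simp [Subgroup.mem_bot]
  | succ n ih =>
    have hmap : (fit T n).map e.toMonoidHom = fit T' n := by
      ext y
      constructor
      · rintro ⟨z, hz, rfl⟩
        exact (ih z).mpr hz
      · intro hy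
        refine ⟨e.symm y, (ih _).mp (by simpa using hy), by simp⟩
    let E : (T ⧸ fit T n) ≃* (T' ⧸ fit T' n) := QuotientGroup.congr _ _ e hmap
    have hE : E (QuotientGroup.mk' (fit T n) x) = QuotientGroup.mk' (fit T' n) (e x) := rfl
    rw [mem_fit_succ, mem_fit_succ, ← hE]
    exact mem_fitting_equiv E _

/-- A characteristic-then-characteristic pull-back. -/
theorem char_comap_mk (N : Subgroup T) [N.Normal] [Finite T] (hN : N.Characteristic)
    (K : Subgroup (T ⧸ N)) (hK : K.Characteristic) :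
    (K.comap (QuotientGroup.mk' N)).Characteristic := by
  rw [characteristic_iff_comap_le]
  intro σ x hx
  have hσ : N.map σ.toMonoidHom = N := (characteristic_iff_map_eq.mp hN) σ
  let E : (T ⧸ N) ≃* (T ⧸ N) := QuotientGroup.congr _ _ σ hσ
  have h1 : QuotientGroup.mk' N (σ x) ∈ K := hx
  have h2 : E (QuotientGroup.mk' N x) = QuotientGroup.mk' N (σ x) := rfl
  rw [← h2] at h1
  have h3 := (characteristic_iff_comap_le.mp hK) E h1
  exact h3

theorem fit_char [Finite T] (n : ℕ) : (fit T n).Characteristic := by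
  rw [characteristic_iff_comap_le]
  intro σ x hx
  exact (mem_fit_equiv σ n x).mp hx

/-- One step: a normal subgroup with a lower central term in `fit T n`. -/
theorem le_fit_succ_of_lcs [Finite T] {n : ℕ} {N : Subgroup T} (hN : N.Normal) {k : ℕ}
    (hk : N.lowerCentralSeries k ≤ fit T n) : N ≤ fit T (n + 1) := by
  intro x hx
  rw [mem_fit_succ]
  set π := QuotientGroup.mk' (fit T n) with hπ
  have hs : Function.Surjective π := QuotientGroup.mk'_surjective _
  have hnil : Group.IsNilpotent (N.map π) := by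
    rw [isNilpotent_iff_lowerCentralSeries]
    refine ⟨k, ?_⟩
    rw [← map_lowerCentralSeries, eq_bot_iff]
    rintro _ ⟨y, hy, rfl⟩
    exact mem_bot.mpr ((QuotientGroup.eq_one_iff y).mpr (hk hy))
  exact le_fittingSubgroup (hN.map π hs) hnil ⟨x, hx, rfl⟩

theorem lcs_mono {S S' : Subgroup T} (h : S ≤ S') (k : ℕ) :
    S.lowerCentralSeries k ≤ S'.lowerCentralSeries k := by
  induction k with
  | zero => exact h
  | succ k ih => exact commutator_mono ih h

/-- Conversely, the sections of the series are nilpotent. -/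
theorem exists_lcs_fit [Finite T] (n : ℕ) :
    ∃ k : ℕ, (fit T (n + 1)).lowerCentralSeries k ≤ fit T n := by
  set π := QuotientGroup.mk' (fit T n) with hπ
  have hnil : Group.IsNilpotent (fittingSubgroup (T ⧸ fit T n)) := fittingSubgroup_isNilpotent
  rw [isNilpotent_iff_lowerCentralSeries] at hnil
  obtain ⟨k, hk⟩ := hnil
  refine ⟨k, ?_⟩
  intro x hx
  have h1 : (fit T (n + 1)).map π ≤ fittingSubgroup (T ⧸ fit T n) := by
    rintro _ ⟨y, hy, rfl⟩
    exact hy
  have h2 := lcs_mono h1 k
  rw [hk, ← map_lowerCentralSeries] at h2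
  have h3 : π x = 1 := mem_bot.mp (h2 ⟨x, hx, rfl⟩)
  exact (QuotientGroup.eq_one_iff x).mp h3

/-- A chain with nilpotent sections lies below the Fitting series. -/
theorem chain_le_fit [Finite T] {n : ℕ} (F : Fin (n + 1) → Subgroup T) (h0 : F 0 = ⊥)
    (hN : ∀ i, (F i).Normal)
    (hs : ∀ i : Fin n, ∃ k : ℕ, (F i.succ).lowerCentralSeries k ≤ F i.castSucc) (i : Fin (n + 1)) :
    F i ≤ fit T i := by
  induction i using Fin.induction with
  | zero => rw [h0]; exact bot_le
  | succ i ih =>
    obtain ⟨k, hk⟩ := hs i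
    exact le_fit_succ_of_lcs (hN _) (hk.trans ih)

/-- `fit T n = ⊤` from a chain. -/
theorem fit_eq_top_of_chain [Finite T] {n : ℕ} (F : Fin (n + 1) → Subgroup T) (h0 : F 0 = ⊥)
    (hl : F (Fin.last n) = ⊤) (hN : ∀ i, (F i).Normal)
    (hs : ∀ i : Fin n, ∃ k : ℕ, (F i.succ).lowerCentralSeries k ≤ F i.castSucc) : fit T n = ⊤ := by
  have := chain_le_fit F h0 hN hs (Fin.last n)
  rw [hl] at this
  exact top_le_iff.mp (by simpa using this)

/-- The chain of the Fitting series. -/
theorem chain_of_fit_eq_top [Finite T] {n : ℕ} (h : fit T n = ⊤) :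
    ∃ F : Fin (n + 1) → Subgroup T, F 0 = ⊥ ∧ F (Fin.last n) = ⊤ ∧ Monotone F ∧ (∀ i, (F i).Normal) ∧
      ∀ i : Fin n, ∃ k : ℕ, (F i.succ).lowerCentralSeries k ≤ F i.castSucc := by
  refine ⟨fun i => fit T i, rfl, by simpa using h, ?_, fun i => inferInstance, fun i => ?_⟩
  · apply Fin.monotone_iff_le_succ.mpr
    intro i
    exact fit_le_succ _
  · simpa using exists_lcs_fit (T := T) (i : ℕ)

/-- A `q`-subgroup inside the Fitting subgroup lies in `O_q`. -/
theorem le_pCore_of_le_fitting [Finite T] {q : ℕ} [Fact q.Prime] {Y : Subgroup T}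
    (hY : IsPGroup q Y) (hF : Y ≤ fittingSubgroup T) : Y ≤ pCore q T := by
  have hnil : Group.IsNilpotent (fittingSubgroup T) := fittingSubgroup_isNilpotent
  have h1 : (Y.subgroupOf (fittingSubgroup T)).IsSubnormal :=
    Cfsg.Agent.Lib.Components.Primitive.isSubnormal_of_isNilpotent _
  have h2 : Y.IsSubnormal := by
    have h3 := h1.trans' (fittingSubgroup_normal (G := T)).isSubnormal
    rwa [subgroupOf_map_subtype, inf_eq_left.mpr hF] at h3
  exact Cfsg.Agent.Lib.CharP.Basic.subnormal_pgroup_le_pCore h2 hY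

end

/-- The `n`-th Fitting term of a subgroup, as a subgroup of the ambient group. -/
noncomputable def Fit {Γ : Type u} [Group Γ] (n : ℕ) (S : Subgroup Γ) : Subgroup Γ :=
  (fit ↥S n).map S.subtype

theorem mem_Fit {Γ : Type u} [Group Γ] {n : ℕ} {S : Subgroup Γ} {x : Γ} :
    x ∈ Fit n S ↔ ∃ h : x ∈ S, (⟨x, h⟩ : S) ∈ fit ↥S n := by
  constructor
  · rintro ⟨y, hy, rfl⟩
    exact ⟨y.2, hy⟩
  · rintro ⟨h, hx⟩
    exact ⟨_, hx, rfl⟩

end Cfsg.Agent.Lib.FitH.Basic
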