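/-
The Fitting height of a solvable group under coprime action of an elementary abelian group of
rank at least `n + 2` is at most `n`, when all the `C_X(a)` have Fitting height at most `n`.
-/
import Cfsg.Agent.Lib.FitH.Basic
import Cfsg.Agent.Lib.CoprimeGen.Basic
import Cfsg.Agent.Lib.Coprime.Action
import Cfsg.Agent.Lib.Signal.Basic

set_option autoImplicit false
set_option linter.unusedSectionVars false

namespace Cfsg.Agent.Lib.FitH.Key

open Subgroup Cfsg Cfsg.Agent.Lib.Core.Basic Cfsg.Agent.Lib.FitH.Basic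
  Cfsg.Agent.Lib.Coprime.Action Cfsg.Agent.Lib.CoprimeGen.Basic
open scoped commutatorElement

universe u

variable {Γ : Type u} [Group Γ]

/-- The image of a Sylow subgroup under a map with `r`-group range is the whole range. -/
theorem exists_sylow_image [Finite Γ] {r : ℕ} [Fact r.Prime] {S R : Subgroup Γ} (hS : IsSylowIn r S R)
    {Z : Type*} [Group Z] [Finite Z] (f : ↥R →* Z) (hf : IsPGroup r f.range) (x : R) :
    ∃ s : R, (s : Γ) ∈ S ∧ f s = f x := by
  have hr : r.Prime := Fact.out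
  have hFs : Function.Surjective f.rangeRestrict := f.rangeRestrict_surjective
  have h1 : ((S.subgroupOf R).map f.rangeRestrict).index ∣ (S.subgroupOf R).index :=
    index_map_dvd _ hFs
  have h2 : ¬ r ∣ (S.subgroupOf R).index := hS.2.2
  have h3 : ((S.subgroupOf R).map f.rangeRestrict).index = 1 := by
    obtain ⟨k, hk⟩ := IsPGroup.iff_card.mp hf
    have h4 : ((S.subgroupOf R).map f.rangeRestrict).index ∣ r ^ k := hk ▸ index_dvd_card _
    obtain ⟨j, -, e⟩ := (Nat.dvd_prime_pow hr).mp h4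
    rcases Nat.eq_zero_or_pos j with rfl | hj
    · simpa using e
    · exact absurd ((dvd_pow_self r hj.ne').trans (e ▸ h1)) h2
  have h4 : (S.subgroupOf R).map f.rangeRestrict = ⊤ := index_eq_one.mp h3
  have h5 : f.rangeRestrict x ∈ (S.subgroupOf R).map f.rangeRestrict := h4 ▸ mem_top _
  obtain ⟨s, hs, hsx⟩ := h5
  exact ⟨s, mem_subgroupOf.mp hs, congrArg Subtype.val hsx⟩

theorem normalizer_of_char [Finite Γ] {X : Subgroup Γ} {N : Subgroup X} (hN : N.Characteristic) {d : Γ}
    (hd : d ∈ normalizer (X : Set Γ)) : d ∈ normalizer ((N.map X.subtype : Subgroup Γ) : Set Γ) := by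
  apply mem_normalizer_fintype
  rintro _ ⟨y, hy, rfl⟩
  have h1 : X.normalizerMonoidHom ⟨d, hd⟩ y ∈ N :=
    (characteristic_iff_map_le.mp hN) (X.normalizerMonoidHom ⟨d, hd⟩) ⟨y, hy, rfl⟩
  exact ⟨_, h1, rfl⟩

theorem isPGroup_map_sub {S Y : Subgroup Γ} {q : ℕ} (h : IsPGroup q Y) {Z : Type*} [Group Z]
    (f : ↥S →* Z) : IsPGroup q ((Y.subgroupOf S).map f) := by
  rintro ⟨_, g, hg, rfl⟩
  obtain ⟨k, hk⟩ := h ⟨g, mem_subgroupOf.mp hg⟩
  refine ⟨k, Subtype.ext ?_⟩
  show (f g) ^ (q ^ k) = 1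
  rw [← map_pow]
  have h1 : (g : Γ) ^ (q ^ k) = 1 := congrArg Subtype.val hk
  have h2 : g ^ (q ^ k) = 1 := Subtype.ext h1
  rw [h2, map_one]

/-- An element of `q`-power and `r`-power order is trivial. -/
theorem eq_one_of_two_pow {Z : Type*} [Group Z] {q r : ℕ} (hq : q.Prime) (hr : r.Prime) (hqr : r ≠ q)
    {z : Z} {k l : ℕ} (h1 : z ^ (q ^ k) = 1) (h2 : z ^ (r ^ l) = 1) : z = 1 := by
  have h3 : orderOf z ∣ q ^ k := orderOf_dvd_of_pow_eq_one h1
  have h4 : orderOf z ∣ r ^ l := orderOf_dvd_of_pow_eq_one h2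
  have h5 : Nat.Coprime (q ^ k) (r ^ l) :=
    Nat.Coprime.pow _ _ ((Nat.coprime_primes hq hr).mpr hqr.symm)
  have h6 : orderOf z ∣ 1 := by
    have := Nat.dvd_gcd h3 h4
    rwa [h5] at this
  exact orderOf_eq_one_iff.mp (Nat.dvd_one.mp h6)

/-- Fixed points: an `r`-subgroup of a commutator with a `q`-subgroup of `F_{n+1}` lies in `F_n`. -/
theorem comm_rgroup_le_Fit [Finite Γ] {n : ℕ} {Ta U Y W : Subgroup Γ} {q r : ℕ} [Fact q.Prime]
    [Fact r.Prime] (hqr : r ≠ q) (hU : U ≤ Ta) (hYq : IsPGroup q Y) (hY : Y ≤ Fit (n + 1) Ta)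
    (hWr : IsPGroup r W) (hW : W ≤ ⁅U, Y⁆) : W ≤ Fit n Ta := by
  have hYT : Y ≤ Ta := hY.trans (map_subtype_le _)
  set ρ := QuotientGroup.mk' (fit ↥Ta n) with hρ
  have hYbar : (Y.subgroupOf Ta).map ρ ≤ pCore q (↥Ta ⧸ fit ↥Ta n) := by
    apply le_pCore_of_le_fitting (isPGroup_map_sub hYq ρ)
    rintro _ ⟨y, hy, rfl⟩
    have h1 := hY (mem_subgroupOf.mp hy)
    obtain ⟨_, h2⟩ := mem_Fit.mp h1
    exact h2
  have hcomm : ⁅U, Y⁆ ≤ ((pCore q (↥Ta ⧸ fit ↥Ta n)).comap ρ).map Ta.subtype := by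
    rw [commutator_le]
    intro u hu y hy
    refine ⟨⁅(⟨u, hU hu⟩ : Ta), (⟨y, hYT hy⟩ : Ta)⁆, ?_, rfl⟩
    rw [SetLike.mem_coe, mem_comap, map_commutatorElement, commutatorElement_def]
    have h3 : ρ ⟨y, hYT hy⟩ ∈ pCore q (↥Ta ⧸ fit ↥Ta n) :=
      hYbar ⟨⟨y, hYT hy⟩, mem_subgroupOf.mpr hy, rfl⟩
    exact mul_mem ((pCore_normal q _).conj_mem _ h3 _) (inv_mem h3)
  intro w hw
  obtain ⟨w', hw', rfl⟩ := hcomm (hW hw)
  rw [SetLike.mem_coe, mem_comap] at hw'
  obtain ⟨k, hk⟩ := (pCore_isPGroup (p := q) (G := ↥Ta ⧸ fit ↥Ta n)) ⟨_, hw'⟩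
  obtain ⟨l, hl⟩ := hWr ⟨_, hw⟩
  have h1 : (ρ w') ^ (q ^ k) = 1 := congrArg Subtype.val hk
  have h2 : (w' : Γ) ^ (r ^ l) = 1 := congrArg Subtype.val hl
  have h3 : (ρ w') ^ (r ^ l) = 1 := by
    rw [← map_pow]
    have : w' ^ (r ^ l) = 1 := Subtype.ext h2
    rw [this, map_one]
  have h4 : ρ w' = 1 := eq_one_of_two_pow Fact.out Fact.out hqr h1 h3
  exact ⟨w', (QuotientGroup.eq_one_iff w').mp h4, rfl⟩

/-- In a solvable group without `O_q`, a `q`-subgroup centralizing all `O_r` is trivial. -/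
theorem eq_bot_of_centralizes {Z : Type u} [Group Z] [Finite Z] [Group.IsSolvable Z] {q : ℕ}
    [Fact q.Prime] (h0 : pCore q Z = ⊥) {Y : Subgroup Z} (hY : IsPGroup q Y)
    (hc : ∀ (r : ℕ) [Fact r.Prime], r ≠ q → ∀ y ∈ Y, ∀ z ∈ pCore r Z, y * z = z * y) : Y = ⊥ := by
  have h1 : Y ≤ centralizer (fittingSubgroup Z : Set Z) := by
    intro y hy
    rw [mem_centralizer_iff]
    have h2 : fittingSubgroup Z ≤ centralizer ({y} : Set Z) := by
      rw [fittingSubgroup_eq_iSup_pCore]
      apply iSup_le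
      rintro ⟨r, hr⟩
      have : Fact r.Prime := ⟨hr⟩
      intro z hz
      rw [mem_centralizer_iff]
      intro t ht
      rw [Set.mem_singleton_iff.mp ht]
      by_cases hrq : r = q
      · subst hrq
        rw [h0, mem_bot] at hz
        simp [hz]
      · exact hc r hrq y hy z hz
    intro z hz
    have := mem_centralizer_iff.mp (h2 hz) y rfl
    exact this.symm
  have h2 := h1.trans Cfsg.Agent.Lib.Solvable.Fitting.centralizer_fittingSubgroup_le
  have h3 := le_pCore_of_le_fitting hY h2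
  rw [h0] at h3
  exact le_bot_iff.mp h3

theorem card_le_of_hyper {p n : ℕ} (hp : 0 < p) {H D : Subgroup Γ} [Finite Γ] (hHD : H ≤ D)
    (hi : H.relIndex D ≤ p) (hD : p ^ (n + 1) ≤ Nat.card D) : p ^ n ≤ Nat.card H := by
  have h1 : Nat.card (H.subgroupOf D) * H.relIndex D = Nat.card D := card_mul_index _
  have h2 : Nat.card (H.subgroupOf D) = Nat.card H := Nat.card_congr (subgroupOfEquivOfLe hHD).toEquiv
  rw [h2] at h1
  have h3 : p ^ (n + 1) ≤ Nat.card H * p := by
    calc p ^ (n + 1) ≤ Nat.card D := hD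
      _ = Nat.card H * H.relIndex D := h1.symm
      _ ≤ Nat.card H * p := Nat.mul_le_mul_left _ hi
  rw [pow_succ] at h3
  exact Nat.le_of_mul_le_mul_right h3 hp

theorem isEA_of_le {p : ℕ} {H D : Subgroup Γ} (hHD : H ≤ D) (hD : IsElementaryAbelian p D) :
    IsElementaryAbelian p H :=
  ⟨⟨⟨fun a b => Subtype.ext (by
      have := hD.1
      exact setLike_mul_comm (hHD a.2) (hHD b.2))⟩⟩, fun a ha => hD.2 a (hHD ha)⟩

/-- The key induction. -/
theorem key [Finite Γ] {p : ℕ} [Fact p.Prime] {X : Subgroup Γ} (hXs : Group.IsSolvable X)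
    (hXp : ¬ p ∣ Nat.card X) (n : ℕ) :
    ∀ (D Y : Subgroup Γ) (q : ℕ) [Fact q.Prime], IsElementaryAbelian p D → p ^ (n + 1) ≤ Nat.card D →
      D ≤ normalizer (X : Set Γ) → IsPGroup q Y → Y ≤ X → Y ≤ centralizer (D : Set Γ) →
      (∀ a ∈ D, a ≠ 1 → Y ≤ Fit n (X ⊓ centralizer {a})) → Y ≤ Fit n X := by
  have hp : p.Prime := Fact.out
  induction n with
  | zero =>
    intro D Y q _ hD hD1 hDX hYq hYX hYC hY
    have h1 : 1 < Nat.card D := lt_of_lt_of_le (by simpa using hp.one_lt) hD1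
    have h2 : Nontrivial D := (Finite.one_lt_card_iff_nontrivial).mp h1
    obtain ⟨⟨a, ha⟩, ha1⟩ := exists_ne (1 : D)
    have ha1' : a ≠ 1 := fun h => ha1 (Subtype.ext h)
    have h3 := hY a ha ha1'
    have h4 : Fit 0 (X ⊓ centralizer {a}) = ⊥ := by simp [Fit]
    rw [h4] at h3
    exact h3.trans bot_le
  | succ n ih =>
    intro D Y q _ hD hD1 hDX hYq hYX hYC hY
    -- the two quotients
    set L := fit ↥X n with hL
    set K₁ := pCore q (↥X ⧸ L) with hK₁
    let π : ↥X →* ((↥X ⧸ L) ⧸ K₁) := (QuotientGroup.mk' K₁).comp (QuotientGroup.mk' L)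
    have hπs : Function.Surjective π :=
      (QuotientGroup.mk'_surjective _).comp (QuotientGroup.mk'_surjective _)
    have hπL : ∀ x ∈ L, π x = 1 := by
      intro x hx
      have h1 : QuotientGroup.mk' L x = 1 := (QuotientGroup.eq_one_iff x).mpr hx
      show QuotientGroup.mk' K₁ (QuotientGroup.mk' L x) = 1
      rw [h1, map_one]
    have : Group.IsSolvable ↥X := hXs
    -- the main claim
    have hYbar : (Y.subgroupOf X).map π = ⊥ := by
      apply eq_bot_of_centralizes pCore_quotient_eq_bot (isPGroup_map_sub hYq π)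
      rintro r _ hrq _ ⟨y', hy', rfl⟩ z hz
      have hy : (y' : Γ) ∈ Y := mem_subgroupOf.mp hy'
      -- the preimage of `O_r`
      set Rh := (pCore r ((↥X ⧸ L) ⧸ K₁)).comap π with hRh
      have hRhchar : Rh.Characteristic := by
        have h1 : ((pCore r ((↥X ⧸ L) ⧸ K₁)).comap (QuotientGroup.mk' K₁)).Characteristic :=
          char_comap_mk K₁ inferInstance _ inferInstance
        have h2 := char_comap_mk L (fit_char n) _ h1
        rwa [Subgroup.comap_comap] at h2
      have hRhn : Rh.Normal := by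
        have := hRhchar
        infer_instance
      set R := Rh.map X.subtype with hR
      have hRX : R ≤ X := map_subtype_le _
      have hDR : D ≤ normalizer (R : Set Γ) := fun d hd => normalizer_of_char hRhchar (hDX hd)
      have hRp : ¬ p ∣ Nat.card R := fun h =>
        hXp (h.trans (card_dvd_of_le hRX))
      have hDp : IsPGroup p D := by
        intro a
        refine ⟨1, Subtype.ext ?_⟩
        simpa using hD.2 a a.2
      have hcop : (Nat.card D).Coprime (Nat.card R) := by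
        obtain ⟨k, hk⟩ := IsPGroup.iff_card.mp hDp
        rw [hk]
        exact Nat.Coprime.pow_left k ((Nat.Prime.coprime_iff_not_dvd hp).mpr hRp)
      have hsolv : Group.IsSolvable D ∨ Group.IsSolvable R :=
        Or.inl (Cfsg.Agent.Lib.Signal.Basic.isSolvable_of_isPGroup hDp)
      obtain ⟨S, hS, hDS⟩ := exists_invariant_sylowIn (p := r) hDR hcop hsolv
      have hSp : ¬ p ∣ Nat.card S := fun h => hRp (h.trans (card_dvd_of_le hS.1))
      have hSgen := eq_hyperJoin hD hSp hDS
      -- the subgroup of elements whose images commute with that of `y`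
      set Ay := ((centralizer ({π y'} : Set _)).comap π).map X.subtype with hAy
      have hSAy : S ≤ Ay := by
        rw [hSgen]
        apply iSup_le
        rintro ⟨H, hHD, hHi⟩ u hu
        obtain ⟨huS, huH⟩ := mem_inf.mp hu
        have huX : u ∈ X := hRX (hS.1 huS)
        -- the commutator
        set U := S ⊓ centralizer (H : Set Γ) with hU
        set W := ⁅U, Y⁆ with hW
        have hYH : Y ≤ centralizer (H : Set Γ) := hYC.trans (centralizer_le hHD)
        have hUX : U ≤ X := inf_le_left.trans (hS.1.trans hRX)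
        have hWX : W ≤ X := by
          rw [hW, commutator_le]
          intro a ha b hb
          exact mul_mem (mul_mem (mul_mem (hUX ha) (hYX hb)) (inv_mem (hUX ha))) (inv_mem (hYX hb))
        have hWH : W ≤ centralizer (H : Set Γ) := by
          rw [hW, commutator_le]
          intro a ha b hb
          have ha' : a ∈ centralizer (H : Set Γ) := (inf_le_right : U ≤ _) ha
          have hb' := hYH hb
          exact mul_mem (mul_mem (mul_mem ha' hb') (inv_mem ha')) (inv_mem hb')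
        have hWR : W ≤ R := by
          rw [hW, commutator_le]
          intro a ha b hb
          obtain ⟨a', ha', rfl⟩ := hS.1 ((inf_le_left : U ≤ S) ha)
          refine ⟨⁅a', (⟨b, hYX hb⟩ : ↥X)⁆, ?_, rfl⟩
          rw [SetLike.mem_coe]
          rw [commutatorElement_def]
          have h7 := mul_mem ha' (hRhn.conj_mem _ (inv_mem ha') (⟨b, hYX hb⟩ : ↥X))
          simpa [mul_assoc] using h7
        obtain ⟨P⟩ : Nonempty (Sylow r W) := inferInstance
        have hWr : IsSylowIn r ((P : Subgroup W).map W.subtype) W := isSylowIn_map P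
        set Wr := (P : Subgroup W).map W.subtype with hWrdef
        have hH : IsElementaryAbelian p H := isEA_of_le hHD hD
        have hH1 : p ^ (n + 1) ≤ Nat.card H := card_le_of_hyper hp.pos hHD hHi hD1
        have hih := ih H Wr r hH hH1 (hHD.trans hDX) hWr.2.1 (hWr.1.trans hWX)
          (hWr.1.trans hWH) (fun a ha ha1 => by
            have hUa : U ≤ X ⊓ centralizer {a} := le_inf hUX
              ((inf_le_right : U ≤ _).trans (centralizer_le (by
                rintro _ rfl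
                exact ha)))
            exact comm_rgroup_le_Fit hrq hUa hYq (hY a (hHD ha) ha1) hWr.2.1 hWr.1)
        -- hence the image of `W` is trivial
        let f : ↥W →* ((↥X ⧸ L) ⧸ K₁) := π.comp (inclusion hWX)
        have hfr : IsPGroup r f.range := by
          apply (pCore_isPGroup (p := r) (G := (↥X ⧸ L) ⧸ K₁)).to_le
          rintro _ ⟨w, rfl⟩
          obtain ⟨w', hw', hww'⟩ := hWR w.2
          have : inclusion hWX w = w' := Subtype.ext hww'.symm
          show π (inclusion hWX w) ∈ _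
          rw [this]
          exact hw'
        have huU : u ∈ U := hu
        have hcw : ⁅u, (y' : Γ)⁆ ∈ W := commutator_mem_commutator huU hy
        obtain ⟨s, hsW, hs⟩ := exists_sylow_image hWr f hfr ⟨_, hcw⟩
        have hsL : f s = 1 := by
          have h1 := hih hsW
          obtain ⟨h2, h3⟩ := mem_Fit.mp h1
          exact hπL _ h3
        rw [hsL] at hs
        have h5 : π ⁅(⟨u, huX⟩ : ↥X), y'⁆ = 1 := hs.symm
        rw [map_commutatorElement, commutatorElement_eq_one_iff_mul_comm] at h5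
        refine ⟨⟨u, huX⟩, ?_, rfl⟩
        rw [SetLike.mem_coe, mem_comap, mem_centralizer_iff]
        intro t ht
        rw [Set.mem_singleton_iff.mp ht]
        exact h5.symm
      -- conclude
      obtain ⟨t, rfl⟩ := hπs z
      have ht : t ∈ Rh := hz
      have htR : (t : Γ) ∈ R := ⟨t, ht, rfl⟩
      let f : ↥R →* ((↥X ⧸ L) ⧸ K₁) := π.comp (inclusion hRX)
      have hfr : IsPGroup r f.range := by
        apply (pCore_isPGroup (p := r) (G := (↥X ⧸ L) ⧸ K₁)).to_le
        rintro _ ⟨w, rfl⟩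
        obtain ⟨w', hw', hww'⟩ := w.2
        have : inclusion hRX w = w' := Subtype.ext hww'.symm
        show π (inclusion hRX w) ∈ _
        rw [this]
        exact hw'
      obtain ⟨s, hsS, hs⟩ := exists_sylow_image hS f hfr ⟨_, htR⟩
      have h6 : π t = f s := by
        rw [hs]
        rfl
      rw [h6]
      obtain ⟨s', hs', hss'⟩ := hSAy hsS
      have h7 : f s = π s' := by
        show π (inclusion hRX s) = _
        congr 1
        exact Subtype.ext hss'.symm
      rw [h7]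
      have h8 := mem_centralizer_iff.mp hs' (π y') rfl
      exact h8
    -- finish
    intro y hy
    have h1 : π ⟨y, hYX hy⟩ ∈ (Y.subgroupOf X).map π := ⟨_, mem_subgroupOf.mpr hy, rfl⟩
    rw [hYbar, mem_bot] at h1
    have h2 : QuotientGroup.mk' L ⟨y, hYX hy⟩ ∈ K₁ := (QuotientGroup.eq_one_iff _).mp h1
    have h3 : QuotientGroup.mk' L ⟨y, hYX hy⟩ ∈ fittingSubgroup (↥X ⧸ L) :=
      pCore_le_fittingSubgroup q h2
    exact mem_Fit.mpr ⟨hYX hy, h3⟩

/-- **Fitting height under coprime action.** -/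
theorem Fit_eq [Finite Γ] {p : ℕ} [Fact p.Prime] {A X : Subgroup Γ} (hXs : Group.IsSolvable X)
    (hXp : ¬ p ∣ Nat.card X) {n : ℕ} (hA : IsElementaryAbelian p A)
    (hA2 : p ^ (n + 2) ≤ Nat.card A) (hAX : A ≤ normalizer (X : Set Γ))
    (hfix : ∀ a ∈ A, a ≠ 1 → Fit n (X ⊓ centralizer {a}) = X ⊓ centralizer {a}) :
    fit ↥X n = ⊤ := by
  have hp : p.Prime := Fact.out
  apply eq_top_of_forall_sylow_le
  intro q _
  have hAp : IsPGroup p A := by
    intro a
    refine ⟨1, Subtype.ext ?_⟩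
    simpa using hA.2 a a.2
  have hcop : (Nat.card A).Coprime (Nat.card X) := by
    obtain ⟨k, hk⟩ := IsPGroup.iff_card.mp hAp
    rw [hk]
    exact Nat.Coprime.pow_left k ((Nat.Prime.coprime_iff_not_dvd hp).mpr hXp)
  obtain ⟨Q, hQ, hAQ⟩ := exists_invariant_sylowIn (p := q) hAX hcop
    (Or.inl (Cfsg.Agent.Lib.Signal.Basic.isSolvable_of_isPGroup hAp))
  have hQp : ¬ p ∣ Nat.card Q := fun h => hXp (h.trans (card_dvd_of_le hQ.1))
  have hgen := eq_hyperJoin hA hQp hAQ
  have hQF : Q ≤ Fit n X := by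
    rw [hgen]
    apply iSup_le
    rintro ⟨H, hHA, hHi⟩
    have hYq : IsPGroup q ↥(Q ⊓ centralizer (H : Set Γ)) := hQ.2.1.to_le inf_le_left
    refine key hXs hXp n H _ q (isEA_of_le hHA hA) (card_le_of_hyper hp.pos hHA hHi hA2)
      (hHA.trans hAX) hYq (inf_le_left.trans hQ.1) inf_le_right ?_
    intro a ha ha1
    rw [hfix a (hHA ha) ha1]
    refine le_inf (inf_le_left.trans hQ.1) (inf_le_right.trans (centralizer_le ?_))
    rintro _ rfl
    exact ha
  obtain ⟨P, hP⟩ := exists_sylow_of_isSylowIn hQ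
  refine ⟨P, ?_⟩
  intro x hx
  have h1 : (x : Γ) ∈ Q := by
    rw [← hP]
    exact ⟨x, hx, rfl⟩
  obtain ⟨_, h2⟩ := mem_Fit.mp (hQF h1)
  exact h2

end Cfsg.Agent.Lib.FitH.Key
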