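/-
Passage from an abstract action `φ : A →* MulAut X` to the semidirect product, for the Fitting
height theorem.
-/
import Cfsg.Agent.Lib.FitH.Key
import Cfsg.Agent.Lib.Coprime.Generation
import Cfsg.Prelude.Def_EvenType

set_option autoImplicit false
set_option linter.unusedSectionVars false

namespace Cfsg.Agent.Lib.FitH.Final

open Subgroup Cfsg Cfsg.Agent.Lib.Core.Basic Cfsg.Agent.Lib.FitH.Basic Cfsg.Agent.Lib.FitH.Key

universe u v

variable {X : Type u} {A : Type v} [Group X] [Finite X] [CommGroup A] [Finite A] {p : ℕ}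
  [Fact p.Prime] (φ : A →* MulAut X)

instance finite_sdp : Finite (X ⋊[φ] A) := Finite.of_equiv (X × A) SemidirectProduct.equivProd.symm

/-- The copy of `X`. -/
def XC : Subgroup (X ⋊[φ] A) := (SemidirectProduct.inl : X →* X ⋊[φ] A).range

/-- The copy of `A`. -/
def AC : Subgroup (X ⋊[φ] A) := (SemidirectProduct.inr : A →* X ⋊[φ] A).range

/-- `X` is isomorphic to its copy. -/
noncomputable def eX : X ≃* XC φ :=
  MonoidHom.ofInjective (SemidirectProduct.inl_injective (φ := φ))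

theorem card_XC : Nat.card (XC φ) = Nat.card X := Nat.card_congr (eX φ).toEquiv.symm

theorem card_AC : Nat.card (AC φ) = Nat.card A :=
  Nat.card_congr (MonoidHom.ofInjective (SemidirectProduct.inr_injective (φ := φ))).toEquiv.symm

theorem XC_normal : (XC φ).Normal := by
  rw [XC, SemidirectProduct.range_inl_eq_ker_rightHom]
  infer_instance

theorem AC_le : AC φ ≤ normalizer (XC φ : Set (X ⋊[φ] A)) := by
  have := XC_normal φ
  rw [normalizer_eq_top_iff.mpr this]
  exact le_top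

theorem AC_isEA (hexp : ∀ a : A, a ^ p = 1) : IsElementaryAbelian p (AC φ) := by
  refine ⟨⟨⟨?_⟩⟩, ?_⟩
  · rintro ⟨_, a, rfl⟩ ⟨_, b, rfl⟩
    apply Subtype.ext
    show SemidirectProduct.inr a * SemidirectProduct.inr b =
      SemidirectProduct.inr b * SemidirectProduct.inr a
    rw [← map_mul, ← map_mul, mul_comm]
  · rintro _ ⟨a, rfl⟩
    rw [← map_pow, hexp, map_one]

/-- The fixed points as a subgroup of the semidirect product. -/
noncomputable def eFix (a : A) : fixedSubgroup (φ a) ≃*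
    ↥(XC φ ⊓ centralizer ({SemidirectProduct.inr a} : Set (X ⋊[φ] A))) := by
  refine MulEquiv.ofBijective
    (((SemidirectProduct.inl : X →* X ⋊[φ] A).comp (fixedSubgroup (φ a)).subtype).codRestrict _ ?_)
    ⟨?_, ?_⟩
  · rintro ⟨x, hx⟩
    refine mem_inf.mpr ⟨⟨x, rfl⟩, ?_⟩
    rw [mem_centralizer_iff]
    intro t ht
    rw [Set.mem_singleton_iff.mp ht]
    have hx' : φ a x = x := hx
    have h1 := SemidirectProduct.inl_aut (φ := φ) a x
    rw [hx'] at h1
    show SemidirectProduct.inr a * SemidirectProduct.inl x =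
      SemidirectProduct.inl x * SemidirectProduct.inr a
    conv_rhs => rw [h1]
    simp [mul_assoc]
  · rintro ⟨x, hx⟩ ⟨y, hy⟩ h
    apply Subtype.ext
    apply SemidirectProduct.inl_injective (φ := φ)
    exact congrArg Subtype.val h
  · rintro ⟨g, hg⟩
    obtain ⟨⟨x, rfl⟩, hc⟩ := mem_inf.mp hg
    have h1 := mem_centralizer_iff.mp hc _ rfl
    have hx : φ a x = x := by
      apply SemidirectProduct.inl_injective (φ := φ)
      rw [SemidirectProduct.inl_aut, h1]
      simp [mul_assoc]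
    exact ⟨⟨x, hx⟩, rfl⟩

theorem eq_inr_of_mem_AC {g : X ⋊[φ] A} (hg : g ∈ AC φ) (hg1 : g ≠ 1) :
    ∃ a : A, a ≠ 1 ∧ g = SemidirectProduct.inr a := by
  obtain ⟨a, rfl⟩ := hg
  refine ⟨a, ?_, rfl⟩
  rintro rfl
  exact hg1 (map_one _)

/-- The Fitting height, for solvable `X`. -/
theorem fit_eq_top_of_solvable (hsol : Group.IsSolvable X) (hexp : ∀ a : A, a ^ p = 1)
    (hcop : ¬ p ∣ Nat.card X) {n : ℕ} (hrank : p ^ (n + 2) ≤ Nat.card A)
    (hcent : ∀ a : A, a ≠ 1 → fit ↥(fixedSubgroup (φ a)) n = ⊤) : fit X n = ⊤ := by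
  have hsolC : Group.IsSolvable (XC φ) :=
    Group.isSolvable_of_surjective (f := (eX φ).toMonoidHom) (eX φ).surjective
  have h1 : fit ↥(XC φ) n = ⊤ := by
    apply Fit_eq (p := p) (A := AC φ) hsolC (by rwa [card_XC]) (AC_isEA φ hexp)
      (by rwa [card_AC]) (AC_le φ)
    intro g hg hg1
    obtain ⟨a, ha, rfl⟩ := eq_inr_of_mem_AC φ hg hg1
    have h2 : fit ↥(XC φ ⊓ centralizer ({SemidirectProduct.inr a} : Set (X ⋊[φ] A))) n = ⊤ := by
      rw [eq_top_iff]
      intro y _
      obtain ⟨x, rfl⟩ := (eFix φ a).surjective y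
      rw [mem_fit_equiv]
      rw [hcent a ha]
      exact mem_top _
    rw [Fit, h2, ← MonoidHom.range_eq_map, range_subtype]
  rw [eq_top_iff]
  intro x _
  rw [← mem_fit_equiv (eX φ), h1]
  exact mem_top _

/-- Solvability through the solvable signalizer functor theorem (as a hypothesis). -/
theorem solvable_via
    (hS : ∀ (A' K : Subgroup (X ⋊[φ] A)), IsMulCommutative A' → (∀ a ∈ A', a ^ p = 1) →
      p ^ 3 ≤ Nat.card A' → (Nat.card K).Coprime p → A' ≤ normalizer (K : Set (X ⋊[φ] A)) →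
      (∀ a ∈ A', a ≠ 1 →
        Group.IsSolvable ((K ⊓ centralizer ({a} : Set (X ⋊[φ] A)) : Subgroup (X ⋊[φ] A)))) →
      Group.IsSolvable K)
    (hexp : ∀ a : A, a ^ p = 1) (hcop : ¬ p ∣ Nat.card X) (h3 : p ^ 3 ≤ Nat.card A)
    (hsolv : ∀ a : A, a ≠ 1 → Group.IsSolvable ↥(fixedSubgroup (φ a))) : Group.IsSolvable X := by
  have hp : p.Prime := Fact.out
  have h1 := hS (AC φ) (XC φ) (AC_isEA φ hexp).1 (AC_isEA φ hexp).2 (by rwa [card_AC])
    (by
      rw [card_XC]
      exact ((Nat.Prime.coprime_iff_not_dvd hp).mpr hcop).symm)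
    (AC_le φ) (fun g hg hg1 => by
      obtain ⟨a, ha, rfl⟩ := eq_inr_of_mem_AC φ hg hg1
      have := hsolv a ha
      exact Group.isSolvable_of_surjective (f := (eFix φ a).toMonoidHom) (eFix φ a).surjective)
  exact Group.isSolvable_of_surjective (f := (eX φ).symm.toMonoidHom) (eX φ).symm.surjective

/-- The case `n = 0`: all fixed points are trivial, hence so is `X`. -/
theorem solvable_zero (hexp : ∀ a : A, a ^ p = 1) (hnc : ¬ IsCyclic A) (hA : IsPGroup p A)
    (hcop : ¬ p ∣ Nat.card X) (htriv : ∀ a : A, a ≠ 1 → fixedSubgroup (φ a) = ⊥) :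
    Group.IsSolvable X := by
  have hp : p.Prime := Fact.out
  have hAC := AC_isEA φ hexp
  have : IsMulCommutative (AC φ) := hAC.1
  have hncC : ¬ IsCyclic (AC φ) := by
    intro h
    apply hnc
    have hc : IsCyclic ((SemidirectProduct.inr : A →* X ⋊[φ] A).range) := h
    exact isCyclic_of_surjective
      (MonoidHom.ofInjective (SemidirectProduct.inr_injective (φ := φ))).symm
      (MonoidHom.ofInjective (SemidirectProduct.inr_injective (φ := φ))).symm.surjective
  have hcopC : (Nat.card (AC φ)).Coprime (Nat.card (XC φ)) := by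
    rw [card_AC, card_XC]
    obtain ⟨k, hk⟩ := IsPGroup.iff_card.mp hA
    rw [hk]
    exact Nat.Coprime.pow_left k ((Nat.Prime.coprime_iff_not_dvd hp).mpr hcop)
  have h1 := Cfsg.Agent.Lib.Coprime.Generation.iSup_centralizer_eq hncC (AC_le φ) hcopC
  have h2 : XC φ = ⊥ := by
    rw [← h1]
    apply iSup₂_eq_bot.mpr
    rintro g ⟨hg, hg1⟩
    obtain ⟨a, ha, rfl⟩ := eq_inr_of_mem_AC φ hg hg1
    rw [eq_bot_iff]
    intro y hy
    obtain ⟨x, hx⟩ := (eFix φ a).surjective ⟨y, hy⟩
    have h6 : ∀ z ∈ fixedSubgroup (φ a), z = 1 := fun z hz => by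
      rw [htriv a ha] at hz
      exact hz
    have hx1 : x = 1 := Subtype.ext (h6 x x.2)
    have h3 : (⟨y, hy⟩ : ↥(XC φ ⊓ centralizer ({SemidirectProduct.inr a} : Set (X ⋊[φ] A)))) = 1 := by
      rw [← hx, hx1, map_one]
    exact mem_bot.mpr (congrArg Subtype.val h3)
  have h3 : Subsingleton X := by
    have h4 : ∀ x : X, x = 1 := by
      intro x
      have h5 : (SemidirectProduct.inl x : X ⋊[φ] A) ∈ XC φ := ⟨x, rfl⟩
      rw [h2, mem_bot] at h5
      exact SemidirectProduct.inl_injective (φ := φ) (by rw [h5, map_one])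
    exact ⟨fun a b => by rw [h4 a, h4 b]⟩
  infer_instance

end Cfsg.Agent.Lib.FitH.Final
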